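import Cfsg.Agent.CommGraph69.Transport
import Cfsg.Agent.CommGraph69.DataL33
import Cfsg.Agent.Lib.LinearGroup.Card
import Cfsg.Agent.Lib.LinearGroup.Simple

/-!
PSL(3,3) is determined by its commuting graph.
-/

namespace Cfsg.Agent.CommGraph69.L33

abbrev K := Matrix.SpecialLinearGroup (Fin 3) (ZMod 3)

/-- Entry of an encoded matrix. -/
def ent (a i j : ℕ) : ℕ := a / 3 ^ (3 * i + j) % 3

/-- Entry of the product of two encoded matrices. -/
def pm (a b i j : ℕ) : ℕ :=
  (ent a i 0 * ent b 0 j + ent a i 1 * ent b 1 j + ent a i 2 * ent b 2 j) % 3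

/-- The index pairs. -/
def cells : List (ℕ × ℕ) := [(0, 0), (0, 1), (0, 2), (1, 0), (1, 1), (1, 2), (2, 0), (2, 1), (2, 2)]

/-- The products `a b` and `c d` agree. -/
def eqP (a b c d : ℕ) : Bool := cells.all fun p => pm a b p.1 p.2 == pm c d p.1 p.2

/-- `a` and `b` are the same matrix. -/
def eqE (a b : ℕ) : Bool := cells.all fun p => ent a p.1 p.2 == ent b p.1 p.2

/-- `c` is the product of `a` and `b`. -/
def isMul (a b c : ℕ) : Bool := cells.all fun p => pm a b p.1 p.2 == ent c p.1 p.2

/-- The determinant is one. -/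
def detB (a : ℕ) : Bool :=
  (ent a 0 0 * ent a 1 1 * ent a 2 2 + 2 * (ent a 0 0 * ent a 1 2 * ent a 2 1)
    + 2 * (ent a 0 1 * ent a 1 0 * ent a 2 2) + ent a 0 1 * ent a 1 2 * ent a 2 0
    + ent a 0 2 * ent a 1 0 * ent a 2 1 + 2 * (ent a 0 2 * ent a 1 1 * ent a 2 0)) % 3 == 1

/-- The encoded matrix. -/
def toMat (a : ℕ) : Matrix (Fin 3) (Fin 3) (ZMod 3) := Matrix.of fun i j => (ent a i j : ZMod 3)

lemma cells_mem : ∀ i j : Fin 3, ((i : ℕ), (j : ℕ)) ∈ cells := by decide

lemma cast_eq_iff {x y : ℕ} (hx : x < 3) (hy : y < 3) : (x : ZMod 3) = y ↔ x = y :=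
  ⟨fun h => by
    have := (ZMod.natCast_eq_natCast_iff' x y 3).1 h
    omega, fun h => h ▸ rfl⟩

lemma mul_apply (a b : ℕ) (i j : Fin 3) : (toMat a * toMat b) i j = (pm a b i j : ZMod 3) := by
  rw [Matrix.mul_apply, Fin.sum_univ_three, pm, ZMod.natCast_mod]
  simp [toMat]

lemma cells_forall {q : ℕ → ℕ → Prop} : (∀ p ∈ cells, q p.1 p.2) ↔ ∀ i j : Fin 3, q i j := by
  constructor
  · exact fun h i j => h _ (cells_mem i j)
  · intro h p hp
    have : p.1 < 3 ∧ p.2 < 3 := by
      revert p; decide
    exact h ⟨p.1, this.1⟩ ⟨p.2, this.2⟩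

lemma eqP_iff {a b c d : ℕ} : eqP a b c d = true ↔ toMat a * toMat b = toMat c * toMat d := by
  simp only [eqP, List.all_eq_true, beq_iff_eq]
  rw [cells_forall (q := fun i j => pm a b i j = pm c d i j), ← Matrix.ext_iff]
  simp only [mul_apply, cast_eq_iff (Nat.mod_lt _ (by norm_num : 0 < 3))
    (Nat.mod_lt _ (by norm_num : 0 < 3)), pm]

lemma isMul_iff {a b c : ℕ} : isMul a b c = true ↔ toMat a * toMat b = toMat c := by
  simp only [isMul, List.all_eq_true, beq_iff_eq]
  rw [cells_forall (q := fun i j => pm a b i j = ent c i j), ← Matrix.ext_iff]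
  simp only [mul_apply]
  simp only [toMat, Matrix.of_apply, cast_eq_iff (Nat.mod_lt _ (by norm_num : 0 < 3))
    (Nat.mod_lt _ (by norm_num : 0 < 3)), pm, ent]

lemma eqE_iff {a b : ℕ} : eqE a b = true ↔ toMat a = toMat b := by
  simp only [eqE, List.all_eq_true, beq_iff_eq]
  rw [cells_forall (q := fun i j => ent a i j = ent b i j), ← Matrix.ext_iff]
  simp only [toMat, Matrix.of_apply, cast_eq_iff (Nat.mod_lt _ (by norm_num : 0 < 3))
    (Nat.mod_lt _ (by norm_num : 0 < 3)), ent]

lemma det_iff {a : ℕ} : detB a = true ↔ (toMat a).det = 1 := by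
  rw [detB, beq_iff_eq, Matrix.det_fin_three]
  simp only [toMat, Matrix.of_apply, Fin.val_zero, Fin.val_one, Fin.val_two]
  rw [← cast_eq_iff (Nat.mod_lt _ (by norm_num : 0 < 3)) (by norm_num : 1 < 3), ZMod.natCast_mod]
  push_cast
  rw [show (2 : ZMod 3) = -1 from by decide]
  constructor <;> intro h <;> linear_combination h

/-- The group element with a given code. -/
def el (a : ℕ) : K := if h : detB a = true then ⟨toMat a, det_iff.1 h⟩ else 1

lemma coe_el {a : ℕ} (h : detB a = true) : ((el a : K) : Matrix _ _ _) = toMat a := by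
  simp only [el, h, ↓reduceDIte]

lemma el_mul {a b c : ℕ} (ha : detB a = true) (hb : detB b = true) (hc : detB c = true)
    (h : isMul a b c = true) : el a * el b = el c := by
  apply Subtype.ext
  rw [Matrix.SpecialLinearGroup.coe_mul, coe_el ha, coe_el hb, coe_el hc, isMul_iff.1 h]

lemma el_eqP {a b c d : ℕ} (ha : detB a = true) (hb : detB b = true) (hc : detB c = true)
    (hd : detB d = true) : el a * el b = el c * el d ↔ eqP a b c d = true := by
  rw [eqP_iff, ← coe_el ha, ← coe_el hb, ← coe_el hc, ← coe_el hd]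
  exact ⟨fun h => congrArg Subtype.val h, fun h => Subtype.ext h⟩

lemma el_inj {a b : ℕ} (ha : detB a = true) (hb : detB b = true) :
    el a = el b ↔ eqE a b = true := by
  rw [eqE_iff, ← coe_el ha, ← coe_el hb]
  exact ⟨fun h => congrArg Subtype.val h, fun h => Subtype.ext h⟩

lemma dig0 {x y : ℕ} (hx : x < 3) : (x + 3 * y) / 3 ^ 0 % 3 = x := by
  rw [pow_zero, Nat.div_one]; omega

lemma dig_succ {x y k : ℕ} (hx : x < 3) : (x + 3 * y) / 3 ^ (k + 1) = y / 3 ^ k := by
  rw [pow_succ', ← Nat.div_div_eq_div_mul]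
  congr 1
  omega

/-- Every element has a code. -/
lemma exists_code (x : K) : ∃ a < 19683, detB a = true ∧ el a = x := by
  let M : Matrix (Fin 3) (Fin 3) (ZMod 3) := x
  let v : Fin 3 → Fin 3 → ℕ := fun i j => (M i j).val
  have hv : ∀ i j, v i j < 3 := fun i j => ZMod.val_lt _
  let a := v 0 0 + 3 * (v 0 1 + 3 * (v 0 2 + 3 * (v 1 0 + 3 * (v 1 1 + 3 * (v 1 2 + 3 * (v 2 0
    + 3 * (v 2 1 + 3 * v 2 2)))))))
  refine ⟨a, ?_, ?_⟩
  · have := hv 0 0; have := hv 0 1; have := hv 0 2; have := hv 1 0; have := hv 1 1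
    have := hv 1 2; have := hv 2 0; have := hv 2 1; have := hv 2 2
    simp only [a]
    omega
  have hM : toMat a = M := by
    ext i j
    rw [← ZMod.natCast_zmod_val (M i j)]
    show ((ent a i j : ℕ) : ZMod 3) = ((v i j : ℕ) : ZMod 3)
    congr 1
    have last : ∀ {y : ℕ}, y < 3 → y / 3 ^ 0 % 3 = y := fun {y} hy => by
      rw [pow_zero, Nat.div_one, Nat.mod_eq_of_lt hy]
    fin_cases i <;> fin_cases j <;>
      simp only [ent, a, Fin.zero_eta, Fin.mk_one, Fin.reduceFinMk, Fin.val_zero, Fin.val_one,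
        Fin.val_two, Nat.reduceMul, Nat.reduceAdd, dig_succ (hv _ _), dig0 (hv _ _), last (hv _ _)]
  have hd : detB a = true := det_iff.2 (hM ▸ x.2)
  exact ⟨hd, Subtype.ext ((coe_el hd).trans hM)⟩

lemma invs_det : invs.all detB = true := by decide +kernel
lemma conjs_det : conjs.all detB = true := by decide +kernel
lemma cents_det : cents.all detB = true := by decide +kernel
lemma syl_det : syl.all detB = true := by decide +kernel
lemma invs_length : invs.length = 117 := by decide +kernel
lemma syl_gens : (syl.elem sylA && syl.elem sylB && detB 6643) = true := by decide +kernel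

/-- Checks the tree of conjugations. -/
def treeOK : List (ℕ × ℕ × ℕ) → List ℕ → Bool
  | [], seen => (List.range 117).all fun i => seen.elem i
  | (i, p, g) :: l, seen =>
    seen.elem p && decide (p < 117) && decide (i < 117) && decide (g < 2) &&
      eqP (conjs.getD g 0) (invs.getD p 0) (invs.getD i 0) (conjs.getD g 0) && treeOK l (i :: seen)

lemma tree_ok : treeOK tree [0] = true := by decide +kernel

lemma invs_nodup : ((List.range 117).all fun i => (List.range i).all fun j =>
    !eqE (invs.getD i 0) (invs.getD j 0)) = true := by decide +kernel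

lemma cents_ok : (cents.all fun c => eqP c (invs.getD 0 0) (invs.getD 0 0) c) = true ∧
    cents.Nodup ∧ cents.length = 48 ∧
    (cents.all fun a => cents.all fun b => !eqE a b || (a == b)) = true := by decide +kernel

lemma syl_ok : (syl.all fun a => syl.all fun b => syl.any fun c => isMul a b c) = true ∧
    syl.Nodup ∧ syl.length = 16 ∧ (syl.any fun c => eqE c 6643) = true ∧
    (syl.all fun a => syl.all fun b => !eqE a b || (a == b)) = true := by decide +kernel

lemma cP_ok : ((List.range 19683).all fun a =>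
    !(eqP a sylA sylA a && eqP a sylB sylB a && detB a) || eqE a 6643 ||
      eqE a (invs.getD 0 0)) = true := by decide +kernel

lemma trio_ok : ((List.range 19683).all fun a =>
    !((trio.all fun i => eqP a (invs.getD i 0) (invs.getD i 0) a) && detB a) || eqE a 6643) = true ∧
    (trio.all fun i => decide (i < 117)) = true := by decide +kernel

lemma adj_ok : ((List.range 117).all fun i => (List.range 117).all fun j =>
    adj 117 big i j == eqP (invs.getD i 0) (invs.getD j 0) (invs.getD j 0) (invs.getD i 0))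
      = true := by decide +kernel

lemma cert_ok : certOK 117 big 12 8 0 b2 rest steps = true ∧ (0 :: b2 :: rest).Nodup := by
  decide +kernel

/-- The vertices. -/
def f (i : Fin 117) : K := el (invs.getD i 0)

lemma det_getD {i : ℕ} (hi : i < 117) : detB (invs.getD i 0) = true := by
  rw [List.getD_eq_getElem (hn := invs_length.symm ▸ hi)]
  exact List.all_eq_true.1 invs_det _ (List.getElem_mem _)

lemma det_one : detB 6643 = true := by decide +kernel

lemma el_one : el 6643 = 1 := by
  apply Subtype.ext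
  rw [coe_el det_one]
  decide +kernel

lemma f_injective : Function.Injective f := by
  intro i j h
  rw [f, f, el_inj (det_getD i.2) (det_getD j.2)] at h
  have hn := invs_nodup
  simp only [List.all_eq_true, List.mem_range, Bool.not_eq_true'] at hn
  rcases lt_trichotomy i.val j.val with hlt | e | hlt
  · have := hn _ j.2 _ hlt
    rw [eqE_iff] at h
    rw [eqE_iff.2 h.symm] at this
    exact absurd this (by simp)
  · exact Fin.ext e
  · have := hn _ i.2 _ hlt
    rw [h] at this
    exact absurd this (by simp)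

lemma isConj_f : ∀ i : Fin 117, IsConj (f 0) (f i) := by
  have key : ∀ l seen, treeOK l seen = true →
      (∀ i : Fin 117, i.val ∈ seen → IsConj (f 0) (f i)) → ∀ i : Fin 117, IsConj (f 0) (f i) := by
    intro l
    induction l with
    | nil =>
      intro seen h hs i
      simp only [treeOK, List.all_eq_true, List.mem_range, List.elem_eq_mem, decide_eq_true_eq] at h
      exact hs i (h _ i.2)
    | cons a l ih =>
      obtain ⟨i, p, g⟩ := a
      intro seen h hs
      simp only [treeOK, Bool.and_eq_true, List.elem_eq_mem, decide_eq_true_eq] at h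
      obtain ⟨⟨⟨⟨⟨hp, hp'⟩, hi⟩, hg⟩, heq⟩, hrest⟩ := h
      refine ih _ hrest fun k hk => ?_
      rcases List.mem_cons.1 hk with hk | hk
      · have hdg : detB (conjs.getD g 0) = true := by
          have hl : conjs.length = 2 := rfl
          rw [List.getD_eq_getElem (hn := hl.symm ▸ hg)]
          exact List.all_eq_true.1 conjs_det _ (List.getElem_mem _)
        refine (hs ⟨p, hp'⟩ hp).trans (isConj_iff.2 ⟨el (conjs.getD g 0), ?_⟩)
        rw [mul_inv_eq_iff_eq_mul]
        have e := (el_eqP hdg (det_getD hp') (det_getD hi) hdg).2 heq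
        rw [show k = ⟨i, hi⟩ from Fin.ext hk]
        exact e
      · exact hs k hk
  exact key _ _ tree_ok fun i hi => by
    simp only [List.mem_singleton] at hi
    rw [show i = 0 from Fin.ext hi]

lemma mem_of_all {L : List ℕ} {p : ℕ → Bool} (h : L.all p = true) {a : ℕ} (ha : a ∈ L) :
    p a = true := List.all_eq_true.1 h a ha

/-- The Sylow 2-subgroup, given by its elements. -/
def sylSub : Subgroup K :=
  have hmul : ∀ x y : K, (∃ a ∈ syl, el a = x) → (∃ a ∈ syl, el a = y) →
      ∃ a ∈ syl, el a = x * y := by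
    rintro _ _ ⟨a, ha, rfl⟩ ⟨b, hb, rfl⟩
    obtain ⟨c, hc, h⟩ := List.any_eq_true.1 (mem_of_all (mem_of_all syl_ok.1 ha) hb)
    exact ⟨c, hc, (el_mul (mem_of_all syl_det ha) (mem_of_all syl_det hb)
      (mem_of_all syl_det hc) h).symm⟩
  have hone : ∃ a ∈ syl, el a = 1 := by
    obtain ⟨c, hc, h⟩ := List.any_eq_true.1 syl_ok.2.2.2.1
    exact ⟨c, hc, by rw [(el_inj (mem_of_all syl_det hc) det_one).2 h, el_one]⟩
  { carrier := {x | ∃ a ∈ syl, el a = x}
    one_mem' := hone
    mul_mem' := fun {x y} hx hy => hmul x y hx hy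
    inv_mem' := fun {x} hx => by
      have hpow : ∀ k : ℕ, ∃ a ∈ syl, el a = x ^ k := by
        intro k
        induction k with
        | zero => rw [pow_zero]; exact hone
        | succ k ih => rw [pow_succ]; exact hmul _ _ ih hx
      obtain ⟨a, ha, h⟩ := hpow (orderOf x - 1)
      refine ⟨a, ha, h.trans (eq_inv_of_mul_eq_one_left ?_)⟩
      rw [← pow_succ, Nat.sub_add_cancel (orderOf_pos x), pow_orderOf_eq_one] }

lemma card_image_el {L : List ℕ} (hd : L.all detB = true) (hn : L.Nodup)
    (hinj : (L.all fun a => L.all fun b => !eqE a b || (a == b)) = true) :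
    (L.toFinset.image el).card = L.length := by
  rw [Finset.card_image_of_injOn, List.toFinset_card_of_nodup hn]
  intro a ha b hb h
  simp only [Finset.mem_coe, List.mem_toFinset] at ha hb
  have := mem_of_all (mem_of_all hinj ha) hb
  rw [(el_inj (mem_of_all hd ha) (mem_of_all hd hb)).1 h] at this
  simpa using this

lemma card_sylSub : Nat.card sylSub = 2 ^ 4 := by
  obtain ⟨-, hn, hl, -, hinj⟩ := syl_ok
  have e : ((sylSub : Subgroup K) : Set K) = ↑(syl.toFinset.image el) := by
    ext x
    rw [SetLike.mem_coe, Finset.mem_coe, Finset.mem_image]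
    simp only [List.mem_toFinset]
    rfl
  rw [← SetLike.coe_sort_coe, e, Nat.card_coe_set_eq, Set.ncard_coe_finset,
    card_image_el syl_det hn hinj, hl]
  rfl

lemma card_K : Nat.card K = 5616 := by
  rw [LinearGroup.card_SL_eq_pow_mul_prod]
  rw [Nat.card_zmod]
  rfl

lemma centralizer_sylSub (y : K) (hy : y ∈ Subgroup.centralizer (sylSub : Set K)) :
    y = 1 ∨ y = f 0 := by
  obtain ⟨a, ha, hd, rfl⟩ := exists_code y
  have h1 := syl_gens
  simp only [Bool.and_eq_true, List.elem_eq_mem, decide_eq_true_eq] at h1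
  rw [Subgroup.mem_centralizer_iff] at hy
  have key : ∀ b ∈ syl, eqP a b b a = true := fun b hb =>
    (el_eqP hd (mem_of_all syl_det hb) (mem_of_all syl_det hb) hd).1 (hy (el b) ⟨b, hb, rfl⟩).symm
  have := mem_of_all cP_ok (List.mem_range.2 ha)
  simp only [key _ h1.1.1, key _ h1.1.2, hd, Bool.and_self, Bool.not_true, Bool.false_or,
    Bool.or_eq_true] at this
  rcases this with h | h
  · exact Or.inl (((el_inj hd det_one).2 h).trans el_one)
  · exact Or.inr ((el_inj hd (det_getD (i := 0) (by norm_num))).2 h)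

lemma centralizer_invs (y : K) (hy : ∀ i, y * f i = f i * y) : y = 1 := by
  obtain ⟨a, ha, hd, rfl⟩ := exists_code y
  have := mem_of_all trio_ok.1 (List.mem_range.2 ha)
  have key : (trio.all fun i => eqP a (invs.getD i 0) (invs.getD i 0) a) = true := by
    rw [List.all_eq_true]
    intro i hi
    have hi' : i < 117 := by simpa using mem_of_all trio_ok.2 hi
    exact (el_eqP hd (det_getD hi') (det_getD hi') hd).1 (hy ⟨i, hi'⟩)
  simp only [key, hd, Bool.and_self, Bool.not_true, Bool.false_or] at this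
  exact ((el_inj hd det_one).2 this).trans el_one

lemma center_eq_bot : Subgroup.center K = ⊥ := by
  rw [Subgroup.eq_bot_iff_forall]
  intro y hy
  exact centralizer_invs y fun i => (Subgroup.mem_center_iff.1 hy _).symm

/-- `SL(3,3)` coincides with `PSL(3,3)`. -/
noncomputable def equivPSL : K ≃* Matrix.ProjectiveSpecialLinearGroup (Fin 3) (ZMod 3) :=
  (QuotientGroup.quotientBot (G := K)).symm.trans
    (QuotientGroup.quotientMulEquivOfEq center_eq_bot.symm)

lemma index_ne_two (U : Subgroup K) : U.index ≠ 2 := by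
  intro h
  have : Fact (Nat.Prime 3) := ⟨Nat.prime_three⟩
  have hs : IsSimpleGroup (Matrix.ProjectiveSpecialLinearGroup (Fin 3) (ZMod 3)) :=
    LinearGroup.isSimpleGroup_PSL_of_three_le (by simp)
  have hsimple : IsSimpleGroup K := MulEquiv.isSimpleGroup equivPSL
  have := Subgroup.normal_of_index_eq_two h
  rcases hsimple.eq_bot_or_eq_top_of_normal U this with e | e
  · rw [e, Subgroup.index_bot, card_K] at h; norm_num at h
  · rw [e, Subgroup.index_top] at h; norm_num at h

lemma special_K : ∀ x : K, special (2 ^ 4) x ↔ x ∈ Set.range f := by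
  obtain ⟨hcomm, hn, hl, hinj⟩ := cents_ok
  refine special_iff (f 0) ?_ f f_injective isConj_f (cents.toFinset.image el) ?_ ?_ ?_ ?_
    sylSub card_sylSub centralizer_sylSub
  · intro h
    have := (el_inj (det_getD (i := 0) (by norm_num)) det_one).1 (h.trans el_one.symm)
    revert this
    decide +kernel
  · intro c hc
    simp only [Finset.mem_image, List.mem_toFinset] at hc
    obtain ⟨a, ha, rfl⟩ := hc
    have hd := mem_of_all cents_det ha
    have h0 := det_getD (i := 0) (by norm_num)
    exact (el_eqP hd h0 h0 hd).2 (mem_of_all hcomm ha)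
  · rw [card_K, card_image_el cents_det hn hinj, hl]
  · rw [card_image_el cents_det hn hinj, hl]; norm_num
  · have : Fact (Nat.Prime 2) := ⟨Nat.prime_two⟩
    rw [card_K, show 5616 = 2 ^ 4 * 351 by norm_num, Nat.factorization_mul (by norm_num) (by norm_num),
      Finsupp.add_apply, Nat.Prime.factorization_pow Nat.prime_two, Finsupp.single_eq_same,
      Nat.factorization_eq_zero_of_not_dvd (by norm_num)]

lemma adj_iff (i j : Fin 117) : adj 117 big i j = true ↔ f i * f j = f j * f i := by
  have h := List.all_eq_true.1 (List.all_eq_true.1 adj_ok _ (List.mem_range.2 i.2)) _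
    (List.mem_range.2 j.2)
  rw [beq_iff_eq] at h
  rw [h]
  exact (el_eqP (det_getD i.2) (det_getD j.2) (det_getD j.2) (det_getD i.2)).symm

theorem mulEquiv_PSL {H : Type*} [Group H] [Finite H]
    (φ : {h : H // h ≠ 1} ≃ {g : Matrix.ProjectiveSpecialLinearGroup (Fin 3) (ZMod 3) // g ≠ 1})
    (hφ : ∀ x y : {h : H // h ≠ 1}, (x : H) * y = y * x ↔
      (φ x : Matrix.ProjectiveSpecialLinearGroup (Fin 3) (ZMod 3)) * φ y = φ y * φ x) :
    Nonempty (H ≃* Matrix.ProjectiveSpecialLinearGroup (Fin 3) (ZMod 3)) := by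
  have : Fact (Nat.Prime 3) := ⟨Nat.prime_three⟩
  obtain ⟨ψ, h1, hψ⟩ := mulEquiv_of_commutingGraph φ hφ
  have h2 : ∀ x y : H, x * y = y * x ↔ equivPSL.symm (ψ x) * equivPSL.symm (ψ y) =
      equivPSL.symm (ψ y) * equivPSL.symm (ψ x) := fun x y => by
    rw [hψ x y, ← equivPSL.symm.injective.eq_iff, map_mul, map_mul]
  obtain ⟨e⟩ := mulEquiv_of_commuting (ψ.trans equivPSL.symm.toEquiv) (by simp [h1]) h2 f
    f_injective special_K adj_iff cert_ok.1 cert_ok.2 centralizer_invs
    (Or.inr ⟨by rw [card_K], index_ne_two⟩)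
  exact ⟨e.trans equivPSL⟩

end Cfsg.Agent.CommGraph69.L33
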